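import Groth.Agent.Hensel1.StrictBaseChange
import Groth.Agent.Hensel1.Transfer
import Groth.Agent.Hensel1.Std
import Groth.Agent.Misc12.HensIso.OrdCone
import Mathlib.RingTheory.EssentialFiniteness
import Mathlib.RingTheory.FinitePresentation

/-!
Henselizations of local rings essentially of finite type and finite local homomorphisms.
-/

set_option autoImplicit false

universe u

open IsLocalRing

namespace Groth.Agent.Misc12.HensFin

/-- `f : O →+* W` has the universal property of a henselization. -/
def IsHensMap {O W : Type u} [CommRing O] [CommRing W] (f : O →+* W) : Prop :=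
  ∀ (T : Type u) [CommRing T] [HenselianLocalRing T] (g : O →+* T),
    IsLocalHom g → ∃! h : W →+* T, h.comp f = g

/-- A henselian local `A`-algebra which is the henselization of a local ring of a finite type algebra. -/
theorem exists_atPrime {A : Type u} [CommRing A] {W : Type u} [CommRing W] [HenselianLocalRing W]
    [Algebra A W] (O : Type u) [CommRing O] [IsLocalRing O] [Algebra A O]
    [Algebra.EssFiniteType A O] (f : O →+* W) [IsLocalHom f]
    (hA : f.comp (algebraMap A O) = algebraMap A W) (hU : IsHensMap f) :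
    ∃ (B : Type u) (_ : CommRing B) (_ : Algebra A B) (_ : Algebra.FiniteType A B) (p : Ideal B)
      (_ : p.IsPrime) (_ : Algebra (Localization.AtPrime p) W)
      (_ : IsScalarTower A (Localization.AtPrime p) W)
      (_ : IsLocalHom (algebraMap (Localization.AtPrime p) W)),
      Hensel.IsHenselization (Localization.AtPrime p) W := by
  obtain ⟨S, Q, hQ, hft, hloc⟩ := HensIso.exists_isLocalization_atPrime A O
  let e : Localization.AtPrime Q ≃ₐ[S] O := IsLocalization.algEquiv Q.primeCompl _ _
  let f' : Localization.AtPrime Q →+* W := f.comp e.toRingEquiv.toRingHom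
  have hlf' : IsLocalHom f' := ⟨fun x hx => (isUnit_map_iff e x).mp (IsLocalHom.map_nonunit (f := f) _ hx)⟩
  let := f'.toAlgebra
  have hl : IsLocalHom (algebraMap (Localization.AtPrime Q) W) := hlf'
  have htow : IsScalarTower A (Localization.AtPrime Q) W := IsScalarTower.of_algebraMap_eq fun a => ?_
  refine ⟨S, inferInstance, inferInstance, hft, Q, hQ, f'.toAlgebra, htow, hl, ⟨‹_›, ?_⟩⟩
  swap
  · show algebraMap A W a = f (e (algebraMap A (Localization.AtPrime Q) a))
    rw [IsScalarTower.algebraMap_apply A S (Localization.AtPrime Q), e.commutes,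
      ← IsScalarTower.algebraMap_apply A S O, ← hA]
    rfl
  intro T _ _ g hg
  obtain ⟨h, hh, hu⟩ := hU T (g.comp e.symm.toRingEquiv.toRingHom)
    ⟨fun x hx => (isUnit_map_iff e.symm x).mp (IsLocalHom.map_nonunit (f := g) _ hx)⟩
  refine ⟨h, RingHom.ext fun x => ?_, fun h' hh' => hu _ (RingHom.ext fun x => ?_)⟩
  · show h (f (e x)) = g x
    have := RingHom.congr_fun hh (e x)
    simpa using this
  · have h1 : h' (f (e (e.symm x))) = g (e.symm x) := RingHom.congr_fun hh' (e.symm x)
    rw [e.apply_symm_apply] at h1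
    exact h1

/-- Finitely many elements of a henselization come from a local ring, essentially of finite type,
with the same henselization. -/
theorem exists_stage {A : Type u} [CommRing A] {W : Type u} [CommRing W] [HenselianLocalRing W]
    [Algebra A W] (O : Type u) [CommRing O] [IsLocalRing O] [Algebra A O]
    [Algebra.EssFiniteType A O] [Algebra O W] [IsScalarTower A O W]
    [IsLocalHom (algebraMap O W)] [Hensel.IsHenselization O W] (c : Finset W) :
    ∃ (O' : Type u) (_ : CommRing O') (_ : IsLocalRing O') (_ : Algebra A O')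
      (_ : Algebra.EssFiniteType A O') (f : O' →+* W) (_ : IsLocalHom f),
      f.comp (algebraMap A O') = algebraMap A W ∧ IsHensMap f ∧ (c : Set W) ⊆ Set.range f := by
  obtain ⟨e⟩ := Groth.Hensel1.exists_algEquiv_of_isHenselization O W
  obtain ⟨i, y, hy⟩ := Groth.Hensel1.Hens.exists_of_fintype fun x : c => e.symm x.1
  let f : i.Obj →+* W := e.toRingEquiv.toRingHom.comp (Groth.Hensel1.Hens.of i).toRingHom
  have hfO : ∀ r, f (algebraMap O i.Obj r) = algebraMap O W r := fun r => by
    show e (Groth.Hensel1.Hens.of i (algebraMap O i.Obj r)) = _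
    rw [AlgHom.commutes, AlgEquiv.commutes]
  have hloc : IsLocalHom f := ⟨fun x hx =>
    (Groth.Hensel1.Hens.isLocalHom_of i).map_nonunit x ((isUnit_map_iff e _).mp hx)⟩
  have : Algebra.EssFiniteType i.P.Ring i.Obj := Algebra.EssFiniteType.of_isLocalization i.Obj i.q.primeCompl
  have : Algebra.EssFiniteType O i.Obj := Algebra.EssFiniteType.comp O i.P.Ring i.Obj
  let : Algebra A i.Obj := ((algebraMap O i.Obj).comp (algebraMap A O)).toAlgebra
  have : IsScalarTower A O i.Obj := IsScalarTower.of_algebraMap_eq' rfl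
  have : Algebra.EssFiniteType A i.Obj := Algebra.EssFiniteType.comp A O i.Obj
  refine ⟨i.Obj, inferInstance, inferInstance, inferInstance, inferInstance, f, hloc,
    RingHom.ext fun a => ?_, fun T _ _ g hg => ?_, fun x hx => ⟨y ⟨x, hx⟩, ?_⟩⟩
  · show f (algebraMap A i.Obj a) = _
    rw [IsScalarTower.algebraMap_apply A O i.Obj, hfO, ← IsScalarTower.algebraMap_apply]
  · let g0 : O →+* T := g.comp (algebraMap O i.Obj)
    have hg0 : IsLocalHom g0 := ⟨fun r hr => by
      have h1 : IsUnit (algebraMap O i.Obj r) := IsLocalHom.map_nonunit (f := g) _ hr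
      have h2 := h1.map f
      rw [hfO] at h2
      exact IsLocalHom.map_nonunit r h2⟩
    obtain ⟨h, hh, hu⟩ := Hensel.IsHenselization.universal (R := O) (S := W) T g0 hg0
    have hmax : ∀ w ∈ maximalIdeal W, h w ∈ maximalIdeal T := by
      obtain ⟨M⟩ := Groth.Hensel1.hensModel_of_isHenselization (R := O) (S := W)
      intro w hw
      rw [← M.map_maximalIdeal] at hw
      refine (Ideal.map_le_iff_le_comap (I := maximalIdeal O)
        (K := (maximalIdeal T).comap h)).mpr (fun r hr => ?_) hw
      show h (algebraMap O W r) ∈ maximalIdeal T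
      rw [show h (algebraMap O W r) = g0 r from RingHom.congr_fun hh r]
      exact map_nonunit g0 r hr
    refine ⟨h, ?_, fun h' hh' => hu h' (RingHom.ext fun r => ?_)⟩
    · let := g0.toAlgebra
      have ha1 : ∀ r, h.comp f (algebraMap O i.Obj r) = g0 r := fun r => by
        show h (f (algebraMap O i.Obj r)) = g0 r
        rw [hfO]
        exact RingHom.congr_fun hh r
      let a1 : i.Obj →ₐ[O] T := { h.comp f with commutes' := ha1 }
      let a2 : i.Obj →ₐ[O] T := { g with commutes' := fun r => rfl }
      have : a1 = a2 := by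
        refine IsLocalization.algHom_ext i.q.primeCompl (Groth.Hensel1.algHom_eq_of_residue_eq fun z => ?_)
        obtain ⟨r, hr⟩ := residue_surjective (i.ptL (algebraMap i.P.Ring i.Obj z))
        have hz : algebraMap i.P.Ring i.Obj z - algebraMap O i.Obj r ∈ maximalIdeal i.Obj := by
          rw [mem_maximalIdeal, mem_nonunits_iff, i.isUnit_iff, not_not, map_sub, AlgHom.commutes,
            ← hr, ResidueField.algebraMap_eq, sub_self]
        have e1 : residue T (a1 (algebraMap i.P.Ring i.Obj z)) = residue T (g0 r) := by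
          rw [show g0 r = a1 (algebraMap O i.Obj r) from (a1.commutes r).symm, ← sub_eq_zero, ← map_sub, ← map_sub, residue_eq_zero_iff]
          exact hmax _ (map_nonunit f _ hz)
        have e2 : residue T (a2 (algebraMap i.P.Ring i.Obj z)) = residue T (g0 r) := by
          rw [show g0 r = a2 (algebraMap O i.Obj r) from (a2.commutes r).symm, ← sub_eq_zero, ← map_sub, ← map_sub, residue_eq_zero_iff]
          exact map_nonunit g _ hz
        exact e1.trans e2.symm
      exact congr_arg AlgHom.toRingHom this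
    · show h' (algebraMap O W r) = g (algebraMap O i.Obj r)
      rw [← hfO]
      exact RingHom.congr_fun hh' _
  · show e (Groth.Hensel1.Hens.of i (y ⟨x, hx⟩)) = x
    rw [hy, AlgEquiv.apply_symm_apply]

/-- A finite local algebra over the henselization of a local ring essentially of finite type is of
the same kind. -/
theorem exists_of_finite {A : Type u} [CommRing A] {W : Type u} [CommRing W] [IsNoetherianRing W]
    [HenselianLocalRing W] [Algebra A W] (O : Type u) [CommRing O] [IsLocalRing O] [Algebra A O]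
    [Algebra.EssFiniteType A O] [Algebra O W] [IsScalarTower A O W]
    [IsLocalHom (algebraMap O W)] [Hensel.IsHenselization O W]
    {W₁ : Type u} [CommRing W₁] [HenselianLocalRing W₁] [Algebra A W₁] (φ : W →+* W₁)
    [IsLocalHom φ] (hA : φ.comp (algebraMap A W) = algebraMap A W₁) (hfin : φ.Finite) :
    ∃ (B : Type u) (_ : CommRing B) (_ : Algebra A B) (_ : Algebra.FiniteType A B) (p : Ideal B)
      (_ : p.IsPrime) (_ : Algebra (Localization.AtPrime p) W₁)
      (_ : IsScalarTower A (Localization.AtPrime p) W₁)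
      (_ : IsLocalHom (algebraMap (Localization.AtPrime p) W₁)),
      Hensel.IsHenselization (Localization.AtPrime p) W₁ := by
  classical
  let := φ.toAlgebra
  have : Module.Finite W W₁ := hfin
  have hfp : Algebra.FinitePresentation W W₁ :=
    Algebra.FinitePresentation.of_finiteType.1 inferInstance
  obtain ⟨n, π, hπ, hker⟩ := hfp.out
  obtain ⟨s, hs⟩ := hker
  obtain ⟨O', iO', lO', aO', eO', f, lf, hfA, hfU, hc⟩ :=
    exists_stage (A := A) (W := W) O (s.biUnion fun q => q.support.image fun m => q.coeff m)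
  have hlift : ∀ q : s, ∃ q' : MvPolynomial (Fin n) O', MvPolynomial.map f q' = q.1 := by
    intro q
    refine MvPolynomial.mem_range_map_iff_coeffs_subset.mpr ?_
    intro c hc'
    obtain ⟨m, hm, rfl⟩ := MvPolynomial.mem_coeffs_iff.mp hc'
    exact hc (Finset.mem_biUnion.mpr ⟨q, q.2, Finset.mem_image.mpr ⟨m, hm, rfl⟩⟩)
  choose q' hq' using hlift
  let J : Ideal (MvPolynomial (Fin n) O') := Ideal.span (Set.range q')
  let C := MvPolynomial (Fin n) O' ⧸ J
  have hJ : ∀ q ∈ J, π.toRingHom.comp (MvPolynomial.map f) q = 0 := by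
    intro q hq
    refine (Ideal.span_le.mpr ?_ : J ≤ RingHom.ker _) hq
    rintro _ ⟨k, rfl⟩
    show π (MvPolynomial.map f (q' k)) = 0
    rw [hq']
    exact (hs ▸ Ideal.subset_span k.2 : k.1 ∈ RingHom.ker π.toRingHom)
  let χ : C →+* W₁ := Ideal.Quotient.lift J (π.toRingHom.comp (MvPolynomial.map f)) hJ
  have hχO : ∀ r, χ (algebraMap O' C r) = φ (f r) := fun r => by
    show π (MvPolynomial.map f (MvPolynomial.C r)) = _
    rw [MvPolynomial.map_C, ← MvPolynomial.algebraMap_eq, AlgHom.commutes]
    rfl
  let q : Ideal C := (maximalIdeal W₁).comap χ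
  let ψ : Localization.AtPrime q →+* W₁ := IsLocalization.lift (M := q.primeCompl) (g := χ)
    fun x => notMem_maximalIdeal.mp x.2
  have hψ : ∀ x, ψ (algebraMap C _ x) = χ x := IsLocalization.lift_eq _
  have lψ : IsLocalHom ψ := ⟨fun x hx => by
    obtain ⟨a, b, rfl⟩ := IsLocalization.exists_mk'_eq q.primeCompl x
    refine (IsLocalization.AtPrime.isUnit_mk'_iff _ q a b).mpr fun ha => ?_
    have h1 := congr_arg ψ (IsLocalization.mk'_spec (Localization.AtPrime q) a b)
    rw [map_mul, hψ, hψ] at h1
    exact notMem_maximalIdeal.mpr (h1 ▸ hx.mul (notMem_maximalIdeal.mp b.2)) ha⟩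
  have : Algebra.EssFiniteType A (MvPolynomial (Fin n) O') :=
    Algebra.EssFiniteType.comp A O' _
  have : Algebra.EssFiniteType (MvPolynomial (Fin n) O') C := inferInstance
  have : Algebra.EssFiniteType A C := Algebra.EssFiniteType.comp A (MvPolynomial (Fin n) O') C
  have : Algebra.EssFiniteType C (Localization.AtPrime q) :=
    Algebra.EssFiniteType.of_isLocalization _ q.primeCompl
  have : Algebra.EssFiniteType A (Localization.AtPrime q) := Algebra.EssFiniteType.comp A C _
  refine exists_atPrime (Localization.AtPrime q) ψ (RingHom.ext fun a => ?_) ?_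
  · show ψ (algebraMap A (Localization.AtPrime q) a) = _
    rw [IsScalarTower.algebraMap_apply A C (Localization.AtPrime q), hψ,
      IsScalarTower.algebraMap_apply A O' C, hχO, ← hA, ← hfA]
    rfl
  intro T _ _ g hg
  let ι : O' →+* Localization.AtPrime q := (algebraMap C _).comp (algebraMap O' C)
  have hι : ∀ r, ψ (ι r) = φ (f r) := fun r => (hψ _).trans (hχO r)
  have hgι : IsLocalHom (g.comp ι) := ⟨fun r hr => by
    have h1 : IsUnit (ψ (ι r)) := (IsLocalHom.map_nonunit (f := g) (ι r) hr).map ψ
    rw [hι] at h1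
    exact IsLocalHom.map_nonunit (f := f) r (IsLocalHom.map_nonunit (f := φ) _ h1)⟩
  obtain ⟨h, hh, hu⟩ := hfU T (g.comp ι) hgι
  let ξ : Fin n → T := fun k =>
    g (algebraMap C _ (Ideal.Quotient.mk J (MvPolynomial.X k)))
  let ev : MvPolynomial (Fin n) W →+* T := MvPolynomial.eval₂Hom h ξ
  have hev : ev.comp (MvPolynomial.map f) =
      (g.comp (algebraMap C _)).comp (Ideal.Quotient.mk J) := by
    refine MvPolynomial.ringHom_ext (fun r => ?_) fun k => ?_
    · show MvPolynomial.eval₂Hom h ξ (MvPolynomial.map f (MvPolynomial.C r)) = _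
      rw [MvPolynomial.map_C, MvPolynomial.eval₂Hom_C]
      exact RingHom.congr_fun hh r
    · show MvPolynomial.eval₂Hom h ξ (MvPolynomial.map f (MvPolynomial.X k)) = _
      rw [MvPolynomial.map_X, MvPolynomial.eval₂Hom_X']
      rfl
  have hevker : RingHom.ker π.toRingHom ≤ RingHom.ker ev := by
    rw [← hs]
    refine Ideal.span_le.mpr fun x hx => ?_
    show ev x = 0
    rw [show x = MvPolynomial.map f (q' ⟨x, hx⟩) from (hq' ⟨x, hx⟩).symm]
    refine (RingHom.congr_fun hev (q' ⟨x, hx⟩)).trans ?_
    rw [RingHom.comp_apply, Ideal.Quotient.eq_zero_iff_mem.mpr (show q' ⟨x, hx⟩ ∈ J from Ideal.subset_span (Set.mem_range_self _)), map_zero]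
  let h₁ : W₁ →+* T := RingHom.liftOfSurjective π.toRingHom hπ ⟨ev, hevker⟩
  have hh₁ : h₁.comp π.toRingHom = ev := RingHom.liftOfRightInverse_comp _ _ _ _
  refine ⟨h₁, ?_, fun h' hh' => ?_⟩
  · refine IsLocalization.ringHom_ext q.primeCompl (Ideal.Quotient.ringHom_ext (RingHom.ext fun x => ?_))
    show h₁ (ψ (algebraMap C _ (Ideal.Quotient.mk J x))) = g (algebraMap C _ (Ideal.Quotient.mk J x))
    rw [hψ]
    exact (RingHom.congr_fun hh₁ _).trans (RingHom.congr_fun hev x)
  · have h2 : h'.comp φ = h := hu _ (RingHom.ext fun r => by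
      show h' (φ (f r)) = g (ι r)
      rw [← hι]
      exact RingHom.congr_fun hh' (ι r))
    refine (RingHom.cancel_right (f := π.toRingHom) hπ).mp ?_
    rw [hh₁]
    refine MvPolynomial.ringHom_ext (fun w => ?_) fun k => ?_
    · show h' (π (MvPolynomial.C w)) = MvPolynomial.eval₂Hom h ξ (MvPolynomial.C w)
      rw [MvPolynomial.eval₂Hom_C, ← MvPolynomial.algebraMap_eq, AlgHom.commutes, ← h2]
      rfl
    · show h' (π (MvPolynomial.X k)) = MvPolynomial.eval₂Hom h ξ (MvPolynomial.X k)
      rw [MvPolynomial.eval₂Hom_X']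
      show _ = g (algebraMap C _ (Ideal.Quotient.mk J (MvPolynomial.X k)))
      rw [← RingHom.congr_fun hh' (algebraMap C _ (Ideal.Quotient.mk J (MvPolynomial.X k)))]
      show _ = h' (ψ (algebraMap C _ (Ideal.Quotient.mk J (MvPolynomial.X k))))
      rw [hψ]
      show _ = h' (π (MvPolynomial.map f (MvPolynomial.X k)))
      rw [MvPolynomial.map_X]

end Groth.Agent.Misc12.HensFin

namespace Groth.Agent.Misc12.HensFin

/-- Descent to a subring over which the henselization is finite. -/
theorem exists_of_finite_injective {A : Type u} [CommRing A] [IsNoetherianRing A]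
    {W : Type u} [CommRing W] [HenselianLocalRing W] [Algebra A W]
    {W₁ : Type u} [CommRing W₁] [HenselianLocalRing W₁] [Algebra A W₁] (φ : W →ₐ[A] W₁)
    [IsLocalHom φ.toRingHom] (hinj : Function.Injective φ) (hfin : φ.toRingHom.Finite)
    {B : Type u} [CommRing B] [Algebra A B] [Algebra.FiniteType A B] (p : Ideal B) [p.IsPrime]
    [Algebra (Localization.AtPrime p) W₁] [IsScalarTower A (Localization.AtPrime p) W₁]
    [IsLocalHom (algebraMap (Localization.AtPrime p) W₁)]
    [Hensel.IsHenselization (Localization.AtPrime p) W₁] :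
    ∃ (B : Type u) (_ : CommRing B) (_ : Algebra A B) (_ : Algebra.FiniteType A B) (p : Ideal B)
      (_ : p.IsPrime) (_ : Algebra (Localization.AtPrime p) W)
      (_ : IsScalarTower A (Localization.AtPrime p) W)
      (_ : IsLocalHom (algebraMap (Localization.AtPrime p) W)),
      Hensel.IsHenselization (Localization.AtPrime p) W := by
  classical
  let j : B →+* W₁ := (algebraMap (Localization.AtPrime p) W₁).comp (algebraMap B _)
  obtain ⟨gB, hgB⟩ := ‹Algebra.FiniteType A B›.out
  have hint : ∀ b : B, φ.toRingHom.IsIntegralElem (j b) := fun b => hfin.to_isIntegral _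
  choose P hPm hP using fun b : B => (hint b)
  -- the subalgebra of coefficients
  let c : Finset W := gB.biUnion fun b => (Finset.range ((P b).natDegree + 1)).image (P b).coeff
  let B₀ : Subalgebra A W := Algebra.adjoin A (c : Set W)
  have : Algebra.FiniteType A B₀ :=
    (Subalgebra.fg_iff_finiteType _).mp (Subalgebra.fg_adjoin_finset c)
  have : IsNoetherianRing B₀ := Algebra.FiniteType.isNoetherianRing A B₀
  let p₀ : Ideal B₀ := (maximalIdeal W).comap B₀.val.toRingHom
  have hp₀ : p₀.IsPrime := Ideal.IsPrime.comap _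
  let O₀ := Localization.AtPrime p₀
  have : IsNoetherianRing O₀ := IsLocalization.isNoetherianRing p₀.primeCompl O₀ inferInstance
  have : Algebra.EssFiniteType B₀ O₀ :=
    Algebra.EssFiniteType.of_isLocalization _ p₀.primeCompl
  have : Algebra.EssFiniteType A O₀ := Algebra.EssFiniteType.comp A B₀ _
  let j₀ : O₀ →+* W := IsLocalization.lift (M := p₀.primeCompl) (g := B₀.val.toRingHom)
    fun x => notMem_maximalIdeal.mp x.2
  have hj₀ : ∀ x, j₀ (algebraMap B₀ O₀ x) = (x : W) := IsLocalization.lift_eq _
  have lj₀ : IsLocalHom j₀ := ⟨fun x hx => by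
    obtain ⟨a, b, rfl⟩ := IsLocalization.exists_mk'_eq p₀.primeCompl x
    refine (IsLocalization.AtPrime.isUnit_mk'_iff _ p₀ a b).mpr fun ha => ?_
    have h1 := congr_arg j₀ (IsLocalization.mk'_spec O₀ a b)
    rw [map_mul, hj₀, hj₀] at h1
    have h2 := hx.mul (notMem_maximalIdeal.mp (show (b.1 : W) ∉ maximalIdeal W from b.2))
    rw [h1] at h2
    exact notMem_maximalIdeal.mpr h2 ha⟩
  let H₀ := Groth.Hensel1.Hens O₀ (ResidueField O₀)
  have : Hensel.IsHenselization O₀ H₀ := Groth.Hensel1.isHenselization_hens O₀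
  have : IsNoetherianRing H₀ := Groth.Hensel1.Hens.isNoetherianRing
  obtain ⟨ι, hι, -⟩ := Hensel.IsHenselization.universal (R := O₀) (S := H₀) W j₀ lj₀
  have hιv : ∀ r, ι (algebraMap O₀ H₀ r) = j₀ r := RingHom.congr_fun hι
  have lι : IsLocalHom ι := by
    refine ((local_hom_TFAE ι).out 0 2 rfl rfl).mpr ?_
    rw [← Groth.Hensel1.Hens.map_maximalIdeal (R := O₀) (Ω := ResidueField O₀), Ideal.map_map, hι]
    exact ((local_hom_TFAE j₀).out 0 2 rfl rfl).mp lj₀
  let : Algebra H₀ W := ι.toAlgebra
  let : Algebra H₀ W₁ := (φ.toRingHom.comp ι).toAlgebra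
  have : IsLocalHom (algebraMap H₀ W₁) := ⟨fun x hx =>
    lι.map_nonunit x (IsLocalHom.map_nonunit (f := φ.toRingHom) _ hx)⟩
  let D : Subalgebra H₀ W₁ := Algebra.adjoin H₀ ((gB.image j : Finset W₁) : Set W₁)
  have hDint : ∀ x ∈ ((gB.image j : Finset W₁) : Set W₁), IsIntegral H₀ x := by
    intro x hx
    obtain ⟨b, hb, rfl⟩ := Finset.mem_image.mp hx
    have hlift : P b ∈ Polynomial.lifts ι := by
      rw [Polynomial.lifts_iff_coeff_lifts]
      intro k
      by_cases hk : k ∈ Finset.range ((P b).natDegree + 1)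
      · have hm : (P b).coeff k ∈ B₀ :=
          Algebra.subset_adjoin (Finset.mem_biUnion.mpr ⟨b, hb, Finset.mem_image.mpr ⟨k, hk, rfl⟩⟩)
        exact ⟨algebraMap O₀ H₀ (algebraMap B₀ O₀ ⟨_, hm⟩), by rw [hιv, hj₀]⟩
      · rw [Polynomial.coeff_eq_zero_of_natDegree_lt
          (by simpa only [Finset.mem_range, not_lt, Nat.succ_le_iff] using hk)]
        exact ⟨0, map_zero _⟩
    obtain ⟨Q, hQ, -, hQm⟩ := Polynomial.lifts_and_natDegree_eq_and_monic hlift (hPm b)
    refine ⟨Q, hQm, ?_⟩
    have h1 := hP b
    rw [← hQ, Polynomial.eval₂_map] at h1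
    exact h1
  have hDfin : Module.Finite H₀ D := Module.Finite.iff_fg.mpr
    (fg_adjoin_of_finite (Finset.finite_toSet _) hDint)
  obtain ⟨hDhens, hDloc⟩ := Groth.Hensel1.henselian_of_isIntegral_subalgebra H₀ W₁ D
  -- `B` maps into `D`
  let DA : Subalgebra A B :=
    { D.toSubsemiring.comap j with
      algebraMap_mem' := fun a => by
        show j (algebraMap A B a) ∈ D
        have e1 : j (algebraMap A B a) =
            algebraMap H₀ W₁ (algebraMap O₀ H₀ (algebraMap B₀ O₀ (algebraMap A B₀ a))) := by
          show algebraMap (Localization.AtPrime p) W₁ (algebraMap B _ (algebraMap A B a)) =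
            φ (ι _)
          rw [hιv, hj₀, ← IsScalarTower.algebraMap_apply A B,
            ← IsScalarTower.algebraMap_apply A (Localization.AtPrime p)]
          exact (φ.commutes a).symm
        rw [e1]
        exact Subalgebra.algebraMap_mem _ _ }
  have hDA : DA = ⊤ := by
    rw [eq_top_iff, ← hgB]
    exact Algebra.adjoin_le fun b hb => (Algebra.subset_adjoin (Finset.mem_image_of_mem j hb) : j b ∈ D)
  have hjD : ∀ b, j b ∈ D := fun b => (show b ∈ DA by rw [hDA]; trivial)
  have hu : ∀ x : p.primeCompl, IsUnit (j.codRestrict D hjD x) := fun x =>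
    hDloc.map_nonunit _ ((IsLocalization.map_units (Localization.AtPrime p) x).map (algebraMap _ W₁))
  let g : Localization.AtPrime p →+* D := IsLocalization.lift (M := p.primeCompl) hu
  have hg : D.val.toRingHom.comp g = algebraMap (Localization.AtPrime p) W₁ := by
    refine IsLocalization.ringHom_ext p.primeCompl (RingHom.ext fun b => ?_)
    show D.val (g (algebraMap B _ b)) = j b
    rw [IsLocalization.lift_eq]
    rfl
  have lg : IsLocalHom g := ⟨fun x hx => IsLocalHom.map_nonunit (f := algebraMap (Localization.AtPrime p) W₁) x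
    (by rw [← hg]; exact hx.map D.val.toRingHom)⟩
  obtain ⟨h, hh, -⟩ := Hensel.IsHenselization.universal (R := Localization.AtPrime p) (S := W₁) D g lg
  obtain ⟨k, -, hk⟩ := Hensel.IsHenselization.universal (R := Localization.AtPrime p) (S := W₁) W₁
    (algebraMap _ W₁) inferInstance
  have hid : D.val.toRingHom.comp h = RingHom.id W₁ :=
    (hk _ (by simp only [RingHom.comp_assoc, hh, hg])).trans (hk _ (RingHom.id_comp _)).symm
  have hsurj : Function.Surjective D.val := fun w => ⟨h w, RingHom.congr_fun hid w⟩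
  have : Module.Finite H₀ W₁ := Module.Finite.of_surjective D.val.toLinearMap hsurj
  let φl : W →ₗ[H₀] W₁ :=
    { toFun := φ
      map_add' := map_add φ
      map_smul' := fun r x => map_mul φ (ι r) x }
  have : IsNoetherian H₀ W₁ := isNoetherian_of_isNoetherianRing_of_finite H₀ W₁
  have : IsNoetherian H₀ W := isNoetherian_of_injective φl hinj
  have hιfin : ι.Finite := (inferInstance : Module.Finite H₀ W)
  let : Algebra A H₀ := ((algebraMap O₀ H₀).comp (algebraMap A O₀)).toAlgebra
  have : IsScalarTower A O₀ H₀ := IsScalarTower.of_algebraMap_eq' rfl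
  refine exists_of_finite (A := A) (W := H₀) O₀ ι (RingHom.ext fun a => ?_) hιfin
  show ι (algebraMap O₀ H₀ (algebraMap A O₀ a)) = _
  rw [hιv, IsScalarTower.algebraMap_apply A B₀ O₀, hj₀]
  rfl

end Groth.Agent.Misc12.HensFin
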